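import Cfsg.Agent.Lib.Invol.SECriterion.Lone.Gen

/-!
# The strong embedding criterion: the local interface from the weak T theorem

A conjugate of `z` and its conjugate under an element of the kernel have a product of odd order in the
kernel, inverted by the first; so it is trivial.
-/

set_option autoImplicit false

namespace CfsgLib.SECrit

open CfsgLib.Invol Subgroup

universe u

variable {G : Type u} [Group G] [Finite G] {M : Subgroup G} {z : G}

/-- The kernel is central. -/
theorem Setup.ker_comm_of_tweak (h : Setup M z) (hT : TWeak M z) {x : G} (hx : IsBad M x) :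
    ∀ k ∈ locKer M z x, ∀ g ∈ locGroup z x, Commute k g := by
  obtain ⟨hxo, p, q, hpq, hxp, hxq⟩ := hx
  intro k hk g hg
  induction hg using closure_induction with
  | mem d hd =>
    obtain ⟨hd, hxd⟩ := hd
    obtain ⟨hkL, hkfix⟩ := mem_locKer.1 hk
    have hxk : Commute x k := commute_of_mem_locGroup hkL
    set d' := k * d * k⁻¹ with hd'
    have hd'c : IsConj z d' := hd.trans (isConj_iff.2 ⟨k, rfl⟩)
    have hxd' : Commute x d' := (hxk.mul_right hxd).mul_right hxk.inv_right
    have hdo := h.crit.orderOf_conj hd
    have hd'o := h.crit.orderOf_conj hd'c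
    set w := d * d' with hw
    have hwfix : ∀ a : G ⧸ M, x • a = a → w • a = a := fun a ha => by
      have h1 : k⁻¹ • a = a := inv_smul_eq_iff.2 (hkfix a ha).symm
      have h2 : x • (d • a) = d • a := smul_mem_fix hxd ha
      rw [hw, hd', mul_smul, mul_smul, mul_smul, h1, hkfix _ h2, smul_smul, invol_mul_self hdo, one_smul]
    have hwL : w ∈ locGroup z x := mul_mem (mem_locGroup hd hxd) (mem_locGroup hd'c hxd')
    have hodd : Odd (orderOf w) := by
      by_contra hno
      have he := Nat.not_odd_iff_even.1 hno
      set c := w ^ (orderOf w / 2) with hc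
      have hco : orderOf c = 2 := orderOf_pow_half he
      have hcd : Commute c d := commute_pow_half (invol_conj_mul hdo hd'o) he
      have hdc : IsConj z (d * c) := h.crit.isConj_mul_half hd hd'c
      refine h.mul_not_mem_locKer hxo hpq hxp hxq hd hdc ((Commute.refl d).mul_right hcd.symm)
        (fun e => invol_ne_one hco (left_eq_mul.1 e)) ?_
      rw [← mul_assoc, invol_mul_self hdo, one_mul]
      exact pow_mem (mem_locKer.2 ⟨hwL, hwfix⟩) _
    have hinv : d * w * d⁻¹ = w⁻¹ := invol_conj_mul hdo hd'o
    have h1 : w = 1 := hT x d w p q hxo hpq hxp hxq hd hxd hodd (commute_of_mem_locGroup hwL) hwfix hinv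
    have h2 : d' = d := ((inv_eq_of_mul_eq_one_right h1).symm.trans (invol_inv hdo))
    exact mul_inv_eq_iff_eq_mul.1 h2
  | one => exact Commute.one_right k
  | mul a b _ _ iha ihb => exact iha.mul_right ihb
  | inv a _ iha => exact iha.inv_right

/-- In a generated group the weak T theorem gives the interface for every bad involution. -/
theorem Setup.local_of_tweak (h : Setup M z) (hgen : normalClosure ({z} : Set G) = ⊤) (hT : TWeak M z) :
    ∀ x : G, IsBad M x → Local M z x :=
  h.local_of_top hgen fun _ hx => h.ker_comm_of_tweak hT hx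

end CfsgLib.SECrit
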