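import Cfsg.Agent.Lib.Invol.SECriterion.Local.Base

/-!
# The strong embedding criterion: the local interface from a central kernel

If the kernel of a bad involution is central, a conjugate of `z` commuting with it is determined by
its image, two at the same point commute, and the fixed points are one more than a two-power.
-/

set_option autoImplicit false

namespace CfsgLib.SECrit

open CfsgLib.Invol Subgroup

universe u

variable {G : Type u} [Group G] [Finite G] {M : Subgroup G} {z : G}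

namespace Setup

variable (h : Setup M z) {x : G} (hx : orderOf x = 2) {p q : G ⧸ M} (hpq : p ≠ q) (hxp : x • p = p)
  (hxq : x • q = q)
include h hx hpq hxp hxq

variable (hker : ∀ k ∈ locKer M z x, ∀ g ∈ locGroup z x, Commute k g)
include hker

theorem eq_of_ker_of_comm {d e : G} (hd : IsConj z d) (he : IsConj z e) (hxd : Commute x d)
    (hde : d⁻¹ * e ∈ locKer M z x) : d = e := by
  by_contra hne
  have hc : Commute d (d⁻¹ * e) := (hker _ hde _ (mem_locGroup hd hxd)).symm
  have hdc : Commute d e := by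
    have := (Commute.refl d).mul_right hc
    rwa [mul_inv_cancel_left] at this
  exact h.mul_not_mem_locKer hx hpq hxp hxq hd he hdc hne (by rwa [invol_inv (h.crit.orderOf_conj hd)] at hde)

/-- Two conjugates commuting modulo the kernel commute. -/
theorem commute_of_commutator_mem {d e : G} (hd : IsConj z d) (he : IsConj z e) (hxd : Commute x d)
    (hxe : Commute x e) (hc : (d * e) ^ 2 ∈ locKer M z x) : Commute d e := by
  have hdo := h.crit.orderOf_conj hd
  have heo := h.crit.orderOf_conj he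
  have hconj : d * e * d⁻¹ = e * (e * d * e * d) := by
    rw [invol_inv hdo]
    simp only [← mul_assoc, invol_mul_self heo, one_mul]
  have hk : e * d * e * d ∈ locKer M z x := by
    have := inv_mem hc
    rwa [pow_two, mul_inv_rev, mul_inv_rev, invol_inv hdo, invol_inv heo, ← mul_assoc] at this
  have h1 := h.eq_of_ker_of_comm hx hpq hxp hxq hker he (he.trans (isConj_iff.2 ⟨d, rfl⟩)) hxe
    (by rwa [hconj, inv_mul_cancel_left])
  exact (mul_inv_eq_iff_eq_mul.1 h1.symm)

/-- **Two conjugates at the same point commute.** -/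
theorem comm_at_of_comm {d₀ e₀ : G} (hd₀ : IsConj z d₀) (he₀ : IsConj z e₀) (hxd₀ : Commute x d₀)
    (hxe₀ : Commute x e₀) (hde₀ : Commute d₀ e₀) (hne₀ : d₀ ≠ e₀) {d e : G} {a : G ⧸ M} (hd : IsConj z d)
    (he : IsConj z e) (hxd : Commute x d) (hxe : Commute x e) (hda : d • a = a) (hea : e • a = a) :
    Commute d e := by
  haveI : Fact (Nat.Prime 2) := ⟨Nat.prime_two⟩
  have hxa : x • a = a := h.crit.smul_of_commute hd hxd hda
  obtain ⟨Q, hQ, -, -⟩ := h.loc_regular hx hpq hxp hxq hd₀ he₀ hxd₀ hxe₀ hde₀ hne₀ hxa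
  have hmemQ : ∀ c : G, IsConj z c → Commute x c → c • a = a → c ∈ Q := fun c hc hxc hca =>
    (hQ c).2 ⟨mem_locGroup hc hxc, hca, 1, by
      rw [pow_one, pow_two, invol_mul_self (h.crit.orderOf_conj hc)]; exact one_mem _⟩
  set K := locKer M z x with hK
  haveI hn : (K.subgroupOf Q).Normal := ⟨fun k hk g => mem_subgroupOf.2 (by
    have hc := hker _ (mem_subgroupOf.1 hk) _ ((hQ g).1 g.2).1
    show (g : G) * (k : G) * (g : G)⁻¹ ∈ K
    rw [← hc.eq, mul_inv_cancel_right]
    exact mem_subgroupOf.1 hk)⟩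
  set π := QuotientGroup.mk' (K.subgroupOf Q) with hπ
  have hone : ∀ g : Q, π g = 1 ↔ (g : G) ∈ K := fun g => by
    rw [hπ, QuotientGroup.mk'_apply, QuotientGroup.eq_one_iff, mem_subgroupOf]
  have hP : IsPGroup 2 (Q ⧸ K.subgroupOf Q) := by
    intro gb
    obtain ⟨g, rfl⟩ := QuotientGroup.mk'_surjective _ gb
    obtain ⟨k, hk⟩ := ((hQ g).1 g.2).2.2
    exact ⟨k, by rw [← map_pow, hone]; simpa using hk⟩
  haveI : Nontrivial (Q ⧸ K.subgroupOf Q) := ⟨π ⟨d, hmemQ d hd hxd hda⟩, 1, fun e1 =>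
    h.not_mem_locKer_of_isConj hx hpq hxp hxq hd ((hone _).1 e1)⟩
  -- a central involution of the quotient
  haveI := hP.center_nontrivial
  obtain ⟨s, hs⟩ := exists_prime_orderOf_dvd_card' (G := center (Q ⧸ K.subgroupOf Q)) 2 (by
    obtain ⟨n, hn, e1⟩ := hP.nontrivial_iff_card.1 ‹Nontrivial (Q ⧸ K.subgroupOf Q)›
    obtain ⟨m, hm⟩ := ((hP.to_subgroup (center (Q ⧸ K.subgroupOf Q))).nontrivial_iff_card).1 inferInstance
    rw [hm.2]; exact dvd_pow_self 2 (by omega))
  obtain ⟨s', hs'⟩ := QuotientGroup.mk'_surjective _ (s : Q ⧸ K.subgroupOf Q)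
  have hso : orderOf (π s') = 2 := by rw [hs', orderOf_coe]; exact hs
  obtain ⟨c, hc, hxc, hck⟩ := h.lift_invol hx hpq hxp hxq ((hQ s').1 s'.2).1
    ((hone (s' * s')).1 (by rw [map_mul, ← pow_two, ← hso, pow_orderOf_eq_one]))
    (fun e1 => by rw [(hone s').2 e1, orderOf_one] at hso; omega)
  have hca : c • a = a := by
    conv_lhs => rw [← (mem_locKer.1 hck).2 a hxa, smul_smul, mul_inv_cancel_left]
    exact ((hQ s').1 s'.2).2.1
  have hcπ : π ⟨c, hmemQ c hc hxc hca⟩ = π s' := QuotientGroup.eq.2 (mem_subgroupOf.2 hck)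
  -- so every conjugate at the point commutes with every other modulo the kernel
  have hall : ∀ d e : G, IsConj z d → IsConj z e → Commute x d → Commute x e → d • a = a → e • a = a →
      (d * e) ^ 2 ∈ K := by
    intro d e hd he hxd hxe hda hea
    obtain ⟨u, hu, hud⟩ := h.crit.exists_conj_commuting (Crit.isPGroup_zpowers_invol hx) hpq
      (Crit.forall_zpowers_fix hxp) (Crit.forall_zpowers_fix hxq) hc hd (forall_zpowers_commute hxc)
      (forall_zpowers_commute hxd)
    have hua : u • a = a := h.crit.smul_eq_of_conj hd hud hca hda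
    have hxu : Commute x u⁻¹ := (hu x (mem_zpowers x)).inv_right
    have hua' : u⁻¹ • a = a := inv_smul_eq_iff.2 hua.symm
    set e' := u⁻¹ * e * u⁻¹⁻¹ with he'
    have he'c : IsConj z e' := he.trans (isConj_iff.2 ⟨u⁻¹, rfl⟩)
    have he'x : Commute x e' := (hxu.mul_right hxe).mul_right hxu.inv_right
    have he'a : e' • a = a := by rw [he', mul_smul, mul_smul, inv_inv, hua, hea, hua']
    have hcomm : Commute (π ⟨c, hmemQ c hc hxc hca⟩) (π ⟨e', hmemQ e' he'c he'x he'a⟩) := by
      rw [hcπ, hs']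
      exact (mem_center_iff.1 s.2 _).symm
    have h1 : (c * e') ^ 2 ∈ K := by
      have := (hone ((⟨c, hmemQ c hc hxc hca⟩ * ⟨e', hmemQ e' he'c he'x he'a⟩) ^ 2)).1 (by
        rw [map_pow, map_mul, hcomm.mul_pow, ← map_pow, ← map_pow, pow_two, pow_two,
          show (⟨c, hmemQ c hc hxc hca⟩ : Q) * ⟨c, _⟩ = 1 from
            Subtype.ext (invol_mul_self (h.crit.orderOf_conj hc)),
          show (⟨e', hmemQ e' he'c he'x he'a⟩ : Q) * ⟨e', _⟩ = 1 from
            Subtype.ext (invol_mul_self (h.crit.orderOf_conj he'c)), map_one, mul_one])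
      simpa using this
    have e2 : (d * e) ^ 2 = u * (c * e') ^ 2 * u⁻¹ := by
      rw [← conj_pow, he', ← hud]; group
    rw [e2]
    refine mem_locKer.2 ⟨?_, fun b hb => ?_⟩
    · rw [← e2]
      exact pow_mem (mul_mem (mem_locGroup hd hxd) (mem_locGroup he hxe)) _
    · rw [mul_smul, mul_smul, (mem_locKer.1 h1).2 _ (smul_mem_fix hxu hb), smul_inv_smul]
  exact h.commute_of_commutator_mem hx hpq hxp hxq hker hd he hxd hxe (hall d e hd he hxd hxe hda hea)

/-- The interface for a bad involution with a central kernel and a commuting pair. -/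
theorem local_of_ker_comm {d₀ e₀ : G} (hd₀ : IsConj z d₀) (he₀ : IsConj z e₀) (hxd₀ : Commute x d₀)
    (hxe₀ : Commute x e₀) (hde₀ : Commute d₀ e₀) (hne₀ : d₀ ≠ e₀) : Local M z x where
  ker_comm := hker
  eq_of_ker d e hd he hxd _ hde := h.eq_of_ker_of_comm hx hpq hxp hxq hker hd he hxd hde
  comm_at d e a hd he hxd hxe hda hea :=
    h.comm_at_of_comm hx hpq hxp hxq hker hd₀ he₀ hxd₀ hxe₀ hde₀ hne₀ hd he hxd hxe hda hea
  lift_invol u hu hu2 hun := h.lift_invol hx hpq hxp hxq hu hu2 hun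
  regular := fun _ a ha => by
    obtain ⟨Q, hQ, htr, hfree⟩ := h.loc_regular hx hpq hxp hxq hd₀ he₀ hxd₀ hxe₀ hde₀ hne₀ ha
    refine ⟨Q, fun g hg => ((hQ g).1 hg).1, fun g hg => (hQ g).2 ⟨(mem_locKer.1 hg).1,
      (mem_locKer.1 hg).2 a ha, 0, by rwa [pow_zero, pow_one]⟩, fun g hg => ((hQ g).1 hg).2.1,
      fun g hg => ((hQ g).1 hg).2.2, fun d hd hxd hda => (hQ d).2 ⟨mem_locGroup hd hxd, hda, 1, by
        rw [pow_one, pow_two, invol_mul_self (h.crit.orderOf_conj hd)]; exact one_mem _⟩,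
      fun c hc hca g hg => ?_, htr, hfree⟩
    obtain ⟨hgL, hga, k, hgk⟩ := (hQ g).1 hg
    have hconjL : ∀ v ∈ locGroup z x, c * v * c⁻¹ ∈ locGroup z x := fun v hv => by
      induction hv using closure_induction with
      | mem d hd =>
        exact mem_locGroup (hd.1.trans (isConj_iff.2 ⟨c, rfl⟩)) ((hc.mul_right hd.2).mul_right hc.inv_right)
      | one => simp
      | mul a b _ _ iha ihb => rw [show c * (a * b) * c⁻¹ = c * a * c⁻¹ * (c * b * c⁻¹) by group]; exact mul_mem iha ihb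
      | inv a _ iha => rw [show c * a⁻¹ * c⁻¹ = (c * a * c⁻¹)⁻¹ by group]; exact inv_mem iha
    refine (hQ _).2 ⟨hconjL g hgL, by rw [mul_smul, mul_smul, inv_smul_eq_iff.2 hca.symm, hga, hca], k, ?_⟩
    rw [conj_pow]
    refine mem_locKer.2 ⟨hconjL _ (mem_locKer.1 hgk).1, fun b hb => ?_⟩
    rw [mul_smul, mul_smul, (mem_locKer.1 hgk).2 _ (smul_mem_fix hc.inv_right hb), smul_inv_smul]

end Setup

namespace Local

variable {x : G} (hl : Local M z x)
include hl

/-- The fixed points of a bad involution with a commuting pair are one more than a two-power. -/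
theorem card_fix (hpair : ∃ d e : G, IsConj z d ∧ IsConj z e ∧ Commute x d ∧ Commute x e ∧ Commute d e ∧ d ≠ e)
    {p q : G ⧸ M} (hpq : p ≠ q) (hxp : x • p = p) (hxq : x • q = q) :
    ∃ k : ℕ, Nat.card {a : G ⧸ M // x • a = a} = 2 ^ k + 1 := by
  haveI : Fact (Nat.Prime 2) := ⟨Nat.prime_two⟩
  obtain ⟨Q, hQL, hKQ, hQp, hQ2, -, -, htr, hfree⟩ := hl.regular hpair p hxp
  letI : MulAction Q {a : G ⧸ M // x • a = a ∧ a ≠ p} :=
    { smul := fun g a => ⟨(g : G) • a.1, smul_mem_fix (commute_of_mem_locGroup (hQL g.2)) a.2.1, fun e1 =>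
        a.2.2 (smul_left_cancel (g : G) (e1.trans (hQp g g.2).symm))⟩
      one_smul := fun a => Subtype.ext (one_smul G a.1)
      mul_smul := fun g k a => Subtype.ext (mul_smul (g : G) (k : G) a.1) }
  set b : {a : G ⧸ M // x • a = a ∧ a ≠ p} := ⟨q, hxq, hpq.symm⟩
  haveI : MulAction.IsPretransitive Q {a : G ⧸ M // x • a = a ∧ a ≠ p} := ⟨fun a c => by
    obtain ⟨g, hg, e1⟩ := htr a.1 c.1 a.2.1 c.2.1 a.2.2 c.2.2
    exact ⟨⟨g, hg⟩, Subtype.ext e1⟩⟩
  have hst : MulAction.stabilizer Q b = (locKer M z x).subgroupOf Q := by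
    ext g
    rw [MulAction.mem_stabilizer_iff, mem_subgroupOf]
    exact ⟨fun e1 => hfree g g.2 q hxq hpq.symm (congrArg Subtype.val e1),
      fun e1 => Subtype.ext ((mem_locKer.1 e1).2 q hxq)⟩
  haveI : ((locKer M z x).subgroupOf Q).Normal := ⟨fun k hk g => mem_subgroupOf.2 (by
    have hc := hl.ker_comm _ (mem_subgroupOf.1 hk) _ (hQL g.2)
    show (g : G) * (k : G) * (g : G)⁻¹ ∈ _
    rw [← hc.eq, mul_inv_cancel_right]
    exact mem_subgroupOf.1 hk)⟩
  have hP : IsPGroup 2 (Q ⧸ (locKer M z x).subgroupOf Q) := by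
    intro gb
    obtain ⟨g, rfl⟩ := QuotientGroup.mk'_surjective _ gb
    obtain ⟨k, hk⟩ := hQ2 g g.2
    exact ⟨k, by rw [← map_pow, QuotientGroup.mk'_apply, QuotientGroup.eq_one_iff, mem_subgroupOf]; simpa using hk⟩
  obtain ⟨k, hk⟩ := IsPGroup.iff_card.1 hP
  refine ⟨k, ?_⟩
  have h1 : Nat.card {a : G ⧸ M // x • a = a ∧ a ≠ p} = 2 ^ k := by
    rw [← hk, ← MulAction.index_stabilizer_of_transitive Q b, hst]
    rfl
  have h2 : Set.ncard ({a : G ⧸ M | x • a = a} \ {p}) + 1 = Set.ncard {a : G ⧸ M | x • a = a} :=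
    Set.ncard_diff_singleton_add_one hxp (Set.toFinite _)
  rw [← Nat.card_coe_set_eq, ← Nat.card_coe_set_eq] at h2
  exact h2.symm.trans (congrArg (· + 1) h1)

end Local

end CfsgLib.SECrit
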