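import Cfsg.Agent.Lib.Invol.SECriterion.LocalDefs
import Cfsg.Agent.Lib.Invol.StronglyEmbedded
import Cfsg.Agent.Lib.Bender.Full.Main
import Cfsg.Agent.Lib.Bender.Full.Basic

/-!
# The strong embedding criterion: the centralizer of a bad involution modulo its kernel

By induction the quotient of `locGroup z x` by `locKer M z x` has a strongly embedded point
stabilizer, all its involutions come from conjugates of `z`, and Bender's theorem gives the regular
two-group.
-/

set_option autoImplicit false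

namespace CfsgLib.SECrit

open CfsgLib.Invol Subgroup

universe u

variable {G : Type u} [Group G] [Finite G] {M : Subgroup G} {z : G}

omit [Finite G] in
theorem mem_locGroup {x d : G} (hd : IsConj z d) (hxd : Commute x d) : d ∈ locGroup z x :=
  subset_closure ⟨hd, hxd⟩

omit [Finite G] in
theorem smul_mem_fix {x c : G} (hc : Commute x c) {a : G ⧸ M} (ha : x • a = a) : x • (c • a) = c • a := by
  rw [smul_smul, hc.eq, mul_smul, ha]

theorem forall_zpowers_commute {x d : G} (hxd : Commute x d) : ∀ y ∈ zpowers x, Commute y d :=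
  fun _ hy => by obtain ⟨i, rfl⟩ := mem_zpowers_iff.1 hy; exact hxd.zpow_left i

namespace Setup

variable (h : Setup M z) {x : G} (hx : orderOf x = 2) {p q : G ⧸ M} (hpq : p ≠ q) (hxp : x • p = p)
  (hxq : x • q = q)
include h hx

/-- The group of a bad involution is transitive on its fixed points. -/
theorem exists_loc_smul {a b : G ⧸ M} (ha : x • a = a) (hb : x • b = b) :
    ∃ g ∈ locGroup z x, g • a = b := by
  rcases eq_or_ne a b with rfl | hab
  · exact ⟨1, one_mem _, one_smul _ _⟩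
  obtain ⟨g, hg, hga, hc⟩ := h.crit.exists_commuting_swap (Crit.isPGroup_zpowers_invol hx) hab
    (Crit.forall_zpowers_fix ha) (Crit.forall_zpowers_fix hb)
  exact ⟨g, mem_locGroup hg (hc x (mem_zpowers x)), hga⟩

include hxp in
/-- A bad involution is not central. -/
theorem centralizer_ne_top : centralizer ({x} : Set G) ≠ ⊤ := by
  intro hh
  obtain ⟨a, ha⟩ := h.hfree x hx
  obtain ⟨g, rfl⟩ := QuotientGroup.mk_surjective a
  obtain ⟨k, rfl⟩ := QuotientGroup.mk_surjective p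
  have hcom : ∀ c : G, Commute c x := fun c =>
    mem_centralizer_singleton_iff.1 (hh ▸ mem_top c)
  rw [smul_coe_eq_iff] at hxp
  refine ha ((smul_coe_eq_iff x g).2 ?_)
  rw [mul_assoc, ← (hcom g).eq, inv_mul_cancel_left]
  rwa [mul_assoc, ← (hcom k).eq, inv_mul_cancel_left] at hxp

/-- The setting in the centralizer. -/
theorem loc_crit {d : G} (hd : IsConj z d) (hxd : Commute x d) {a : G ⧸ M} (ha : d • a = a)
    (hpq : p ≠ q) (hxp : x • p = p) (hxq : x • q = q) :
    Crit ((MulAction.stabilizer G a).subgroupOf (centralizer ({x} : Set G)))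
      ⟨d, mem_centralizer_singleton_iff.2 hxd.eq.symm⟩ := by
  set C := centralizer ({x} : Set G) with hC
  have hca := h.crit.at_point hd ha
  have hdC : d ∈ C := mem_centralizer_singleton_iff.2 hxd.eq.symm
  refine ⟨by rw [Subgroup.orderOf_mk]; exact h.crit.orderOf_conj hd, ha, ?_, fun g hg => hca.fuse g hg, ?_⟩
  · rw [← card_isConj_eq_index]
    have e : Nat.card {y : C // IsConj (⟨d, hdC⟩ : C) y} =
        Nat.card {e : G // IsConj z e ∧ ∀ y ∈ zpowers x, Commute y e} := by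
      refine Nat.card_eq_of_bijective (fun y => ⟨(y.1 : G), hd.trans (C.subtype.map_isConj y.2),
        forall_zpowers_commute (mem_centralizer_singleton_iff.1 y.1.2).symm⟩) ⟨?_, ?_⟩
      · intro y y' hyy
        exact Subtype.ext (Subtype.ext (congrArg Subtype.val hyy :))
      · rintro ⟨e, he, hce⟩
        have hxe := hce x (mem_zpowers x)
        obtain ⟨u, hu, hue⟩ := h.crit.exists_conj_commuting (Crit.isPGroup_zpowers_invol hx) hpq
          (Crit.forall_zpowers_fix hxp) (Crit.forall_zpowers_fix hxq) hd he (forall_zpowers_commute hxd) hce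
        exact ⟨⟨⟨e, mem_centralizer_singleton_iff.2 hxe.eq.symm⟩, isConj_iff.2
          ⟨⟨u, mem_centralizer_singleton_iff.2 (hu x (mem_zpowers x)).eq.symm⟩, Subtype.ext hue⟩⟩, rfl⟩
    rw [e]
    exact h.crit.odd_card_commuting (Crit.isPGroup_zpowers_invol hx)
  · intro g hc hne c hcm
    refine mem_subgroupOf.2 (hca.prod g (congrArg Subtype.val hc.eq) (fun e => hne (Subtype.ext e)) ?_)
    exact mem_centralizer_singleton_iff.2 (congrArg Subtype.val (mem_centralizer_singleton_iff.1 hcm))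

include hpq hxp hxq in
/-- Every involution of the quotient by the kernel comes from a conjugate of `z`. -/
theorem lift_invol {u : G} (hu : u ∈ locGroup z x) (hu2 : u * u ∈ locKer M z x)
    (hun : u ∉ locKer M z x) : ∃ e : G, IsConj z e ∧ Commute x e ∧ e⁻¹ * u ∈ locKer M z x := by
  obtain ⟨d, hd, hdp, hxd⟩ := h.crit.exists_commuting_invol hx hxp
  set C := centralizer ({x} : Set G) with hC
  have hdC : d ∈ C := mem_centralizer_singleton_iff.2 hxd.eq.symm
  have hc := h.loc_crit hx hd hxd hdp hpq hxp hxq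
  set M' := (MulAction.stabilizer G p).subgroupOf C with hM'
  obtain ⟨g₀, hg₀, hg₀p⟩ := h.exists_loc_smul hx hxp hxq
  have hmemC : ∀ g : G, g ∈ locGroup z x → g ∈ C := fun g hg =>
    mem_centralizer_singleton_iff.2 (commute_of_mem_locGroup hg).eq.symm
  have hne : M' ≠ ⊤ := fun e => hpq <| by
    have : (⟨g₀, hmemC g₀ hg₀⟩ : C) ∈ M' := e ▸ mem_top _
    exact (show g₀ • p = p from this).symm.trans hg₀p
  have hlt : Nat.card C < Nat.card G :=
    lt_of_le_of_ne C.card_le_card_group fun e => h.centralizer_ne_top hx hxp (C.eq_top_of_card_eq e)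
  have hcore : ∀ c : C, c ∈ M'.normalCore ↔ ∀ a : G ⧸ M, x • a = a → (c : G) • a = a := by
    refine fun c => ⟨fun hcc a ha => ?_, fun hcc g => ?_⟩
    · obtain ⟨g, hg, rfl⟩ := h.exists_loc_smul hx hxp ha
      have h1 : ((⟨g, hmemC g hg⟩ : C)⁻¹ * c * ((⟨g, hmemC g hg⟩ : C)⁻¹)⁻¹) ∈ M' := hcc _
      have h2 : (g⁻¹ * (c : G) * g) • p = p := by simpa [M', mem_subgroupOf, mul_assoc] using h1
      rwa [mul_smul, mul_smul, inv_smul_eq_iff] at h2
    · show ((g : G) * (c : G) * (g : G)⁻¹) • p = p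
      have hg : Commute x (g : G)⁻¹ := Commute.inv_right (mem_centralizer_singleton_iff.1 g.2).symm
      rw [mul_smul, mul_smul, hcc _ (smul_mem_fix hg hxp), smul_inv_smul]
  obtain ⟨hq1, hq2, hq3⟩ := hc.quotient hne
  have hconcl := h.ih _ (lt_of_le_of_lt (Nat.card_le_card_of_surjective _
    (QuotientGroup.mk'_surjective M'.normalCore)) hlt) _ _ hq1 hq2 hq3
  set π := QuotientGroup.mk' M'.normalCore with hπ
  set uC : C := ⟨u, hmemC u hu⟩
  have hclos : uC ∈ normalClosure ({⟨d, hdC⟩} : Set C) := by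
    suffices u ∈ (normalClosure ({⟨d, hdC⟩} : Set C)).map C.subtype by
      obtain ⟨v, hv, hve⟩ := this
      exact (show v = uC from Subtype.ext hve) ▸ hv
    refine (closure_le _).2 ?_ hu
    rintro e ⟨he, hxe⟩
    obtain ⟨k, hk, hke⟩ := h.crit.exists_conj_commuting (Crit.isPGroup_zpowers_invol hx) hpq
      (Crit.forall_zpowers_fix hxp) (Crit.forall_zpowers_fix hxq) hd he (forall_zpowers_commute hxd)
      (forall_zpowers_commute hxe)
    have hkC : k ∈ C := mem_centralizer_singleton_iff.2 (hk x (mem_zpowers x)).eq.symm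
    exact ⟨⟨k, hkC⟩ * ⟨d, hdC⟩ * (⟨k, hkC⟩ : C)⁻¹,
      normalClosure_normal.conj_mem _ (subset_normalClosure (Set.mem_singleton _)) _, hke⟩
  have hclos' : π uC ∈ normalClosure ({π ⟨d, hdC⟩} : Set (C ⧸ M'.normalCore)) := by
    have := map_normalClosure ({⟨d, hdC⟩} : Set C) π (QuotientGroup.mk'_surjective _)
    rw [Set.image_singleton] at this
    exact this ▸ mem_map_of_mem π hclos
  have ho : orderOf (π uC) = 2 := orderOf_eq_prime (hp := ⟨Nat.prime_two⟩)
    (by
      rw [pow_two, ← map_mul]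
      exact (QuotientGroup.eq_one_iff _).2 ((hcore _).2 (mem_locKer.1 hu2).2))
    (fun e => hun (mem_locKer.2 ⟨hu, (hcore uC).1 ((QuotientGroup.eq_one_iff _).1 e)⟩))
  obtain ⟨gb, hgb⟩ := isConj_iff.1 (hconcl _ hclos' ho)
  obtain ⟨g, rfl⟩ := QuotientGroup.mk'_surjective _ gb
  rw [← map_inv, ← map_mul, ← map_mul] at hgb
  have hfix := (hcore _).1 ((QuotientGroup.eq).1 hgb)
  have hxg : Commute x (g : G) := (mem_centralizer_singleton_iff.1 g.2).symm
  have hxe : Commute x ((g : G) * d * (g : G)⁻¹) := (hxg.mul_right hxd).mul_right hxg.inv_right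
  have hze : IsConj z ((g : G) * d * (g : G)⁻¹) := hd.trans (isConj_iff.2 ⟨g, rfl⟩)
  exact ⟨_, hze, hxe, mem_locKer.2 ⟨mul_mem (inv_mem (mem_locGroup hze hxe)) hu, hfix⟩⟩

include hpq hxp hxq in
/-- An involution of the quotient by the kernel fixes at most one fixed point of `x`. -/
theorem eq_of_loc_invol {u : G} (hu : u ∈ locGroup z x) (hu2 : u * u ∈ locKer M z x)
    (hun : u ∉ locKer M z x) {a b : G ⧸ M} (ha : x • a = a) (hb : x • b = b) (hua : u • a = a)
    (hub : u • b = b) : a = b := by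
  obtain ⟨e, he, -, hek⟩ := h.lift_invol hx hpq hxp hxq hu hu2 hun
  have key : ∀ c : G ⧸ M, x • c = c → e • c = u • c := fun c hc => by
    conv_lhs => rw [← (mem_locKer.1 hek).2 c hc, smul_smul, mul_inv_cancel_left]
  exact h.crit.fix_unique he ((key a ha).trans hua) ((key b hb).trans hub)

include hpq hxp hxq in
theorem not_mem_locKer_of_isConj {d : G} (hd : IsConj z d) : d ∉ locKer M z x := fun hh =>
  hpq (h.crit.fix_unique hd ((mem_locKer.1 hh).2 p hxp) ((mem_locKer.1 hh).2 q hxq))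

include hpq hxp hxq in
theorem mul_not_mem_locKer {d e : G} (hd : IsConj z d) (he : IsConj z e) (hde : Commute d e) (hne : d ≠ e) :
    d * e ∉ locKer M z x := fun hh => by
  obtain ⟨a, ha⟩ := h.crit.fix_exists hd
  exact hpq ((h.crit.exists_mul_fix hd he hde hne ha ((mem_locKer.1 hh).2 p hxp)).trans
    (h.crit.exists_mul_fix hd he hde hne ha ((mem_locKer.1 hh).2 q hxq)).symm)

include hpq hxp hxq in
/-- **Bender's theorem in the centralizer.** With two commuting conjugates, the two-elements modulo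
the kernel at a fixed point form a group, regular off that point. -/
theorem loc_regular {d e : G} (hd : IsConj z d) (he : IsConj z e) (hxd : Commute x d) (hxe : Commute x e)
    (hde : Commute d e) (hne : d ≠ e) {a : G ⧸ M} (ha : x • a = a) :
    ∃ Q : Subgroup G, (∀ g : G, g ∈ Q ↔ g ∈ locGroup z x ∧ g • a = a ∧
        ∃ k : ℕ, g ^ (2 ^ k) ∈ locKer M z x) ∧
      (∀ b c : G ⧸ M, x • b = b → x • c = c → b ≠ a → c ≠ a → ∃ g ∈ Q, g • b = c) ∧
      (∀ g ∈ Q, ∀ b : G ⧸ M, x • b = b → b ≠ a → g • b = b → g ∈ locKer M z x) := by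
  haveI : Fact (Nat.Prime 2) := ⟨Nat.prime_two⟩
  set L := locGroup z x with hL
  set H := (MulAction.stabilizer G a).subgroupOf L with hH
  have hmem : ∀ g : L, g ∈ H ↔ (g : G) • a = a := fun g => Iff.rfl
  have hcore : ∀ c : L, c ∈ H.normalCore ↔ (c : G) ∈ locKer M z x := by
    refine fun c => ⟨fun hcc => mem_locKer.2 ⟨c.2, fun b hb => ?_⟩, fun hcc g => ?_⟩
    · obtain ⟨g, hg, rfl⟩ := h.exists_loc_smul hx ha hb
      have h1 : ((⟨g, hg⟩ : L)⁻¹ * c * ((⟨g, hg⟩ : L)⁻¹)⁻¹) ∈ H := hcc _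
      have h2 : (g⁻¹ * (c : G) * g) • a = a := by simpa [H, mem_subgroupOf, mul_assoc] using h1
      rwa [mul_smul, mul_smul, inv_smul_eq_iff] at h2
    · rw [hmem]
      show ((g : G) * (c : G) * (g : G)⁻¹) • a = a
      have hg : Commute x (g : G)⁻¹ := (commute_of_mem_locGroup g.2).inv_right
      rw [mul_smul, mul_smul, (mem_locKer.1 hcc).2 _ (smul_mem_fix hg ha), smul_inv_smul]
  set π := QuotientGroup.mk' H.normalCore with hπ
  have hsurj : Function.Surjective π := QuotientGroup.mk'_surjective _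
  have hone : ∀ c : L, π c = 1 ↔ (c : G) ∈ locKer M z x := fun c => by
    rw [hπ, QuotientGroup.mk'_apply, QuotientGroup.eq_one_iff, hcore]
  have hker : π.ker ≤ H := by rw [hπ, QuotientGroup.ker_mk']; exact H.normalCore_le
  have hcomap : (H.map π).comap π = H := comap_map_eq_self hker
  have hmem' : ∀ g : L, π g ∈ H.map π ↔ (g : G) • a = a := fun g => by
    rw [← mem_comap, hcomap, hmem]
  -- a second point
  obtain ⟨b₀, hb₀, hb₀x⟩ : ∃ b : G ⧸ M, b ≠ a ∧ x • b = b := by
    by_cases hpa : p = a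
    · exact ⟨q, fun e => hpq (hpa.trans e.symm), hxq⟩
    · exact ⟨p, hpa, hxp⟩
  obtain ⟨f, hf, hfa, hxf⟩ := h.crit.exists_commuting_invol hx ha
  have himg : ∀ c : L, IsConj z (c : G) → orderOf (π c) = 2 := fun c hc =>
    orderOf_eq_prime (by
      rw [← map_pow, pow_two, show c * c = 1 from Subtype.ext (invol_mul_self (h.crit.orderOf_conj hc)),
        map_one])
      (fun e1 => h.not_mem_locKer_of_isConj hx hpq hxp hxq hc ((hone c).1 e1))
  have hproper : H.map π ≠ ⊤ := fun e1 => by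
    obtain ⟨g, hg, hgb⟩ := h.exists_loc_smul hx ha hb₀x
    exact hb₀ (hgb.symm.trans ((hmem' ⟨g, hg⟩).1 (e1 ▸ mem_top _)))
  have hse : Cfsg.IsStronglyEmbedded (H.map π) := by
    refine (stronglyEmbedded_iff hproper ?_).2 ?_
    · refine even_iff_two_dvd.2 ?_
      rw [← himg ⟨f, mem_locGroup hf hxf⟩ hf, ← orderOf_mk (π _) ((hmem' ⟨f, mem_locGroup hf hxf⟩).2 hfa)]
      exact orderOf_dvd_natCard _
    · rintro tb ht hto gb hg
      obtain ⟨t, rfl⟩ := hsurj tb
      obtain ⟨g, rfl⟩ := hsurj gb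
      rw [← map_inv, ← map_mul, ← map_mul, hmem'] at hg
      rw [hmem'] at ht ⊢
      have ht2 : ((t : G) * t) ∈ locKer M z x := (hone (t * t)).1 (by
        rw [map_mul, ← pow_two, ← hto, pow_orderOf_eq_one])
      have ht1 : (t : G) ∉ locKer M z x := fun e1 => by
        rw [(hone t).2 e1, orderOf_one] at hto; omega
      have hgc : Commute x (g : G)⁻¹ := (commute_of_mem_locGroup g.2).inv_right
      have h2 : (t : G) • ((g : G)⁻¹ • a) = (g : G)⁻¹ • a := by
        have : ((g : G) * t * (g : G)⁻¹) • a = a := hg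
        rw [mul_smul, mul_smul] at this
        exact eq_inv_smul_iff.2 this
      have := h.eq_of_loc_invol hx hpq hxp hxq t.2 ht2 ht1 (smul_mem_fix hgc ha) ha h2 ht
      exact (inv_smul_eq_iff.1 this).symm
  have hcore' : (H.map π).normalCore = ⊥ := by
    rw [eq_bot_iff]
    intro cb hc
    obtain ⟨c, rfl⟩ := hsurj cb
    refine mem_bot.2 ((QuotientGroup.eq_one_iff c).2 fun g => ?_)
    have := (normalCore_normal _).conj_mem _ hc (π g)
    rw [← map_inv, ← map_mul, ← map_mul] at this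
    exact (hmem' _).1 (normalCore_le _ this)
  have hpair : CfsgLib.Bender.HasPair (L ⧸ H.normalCore) := by
    refine ⟨π ⟨d, mem_locGroup hd hxd⟩, π ⟨e, mem_locGroup he hxe⟩, himg _ hd, himg _ he, fun e1 => ?_,
      (show Commute (⟨d, mem_locGroup hd hxd⟩ : L) ⟨e, mem_locGroup he hxe⟩ from Subtype.ext hde.eq).map π⟩
    refine h.mul_not_mem_locKer hx hpq hxp hxq hd he hde hne ?_
    have h1 := (hcore _).1 ((QuotientGroup.eq).1 e1)
    simpa [invol_inv (h.crit.orderOf_conj hd)] using h1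
  obtain ⟨Q, hQH, hnorm, hQ2, hreg⟩ := CfsgLib.Bender.Full.fullStatement _ _ hse hcore' hpair
  have hkey : ∀ g : L, (g : G) • a = a → (∃ k : ℕ, (g : G) ^ (2 ^ k) ∈ locKer M z x) → π g ∈ Q := by
    intro g hga hgk
    obtain ⟨k, hk⟩ := hgk
    obtain ⟨c, hc, hcb⟩ := h.exists_loc_smul hx ha hb₀x
    set cb := π ⟨c, hc⟩ with hcb'
    have hc' : cb ∉ H.map π := fun e1 => hb₀ (hcb.symm.trans ((hmem' _).1 e1))
    have hgH : π g ∈ H.map π := (hmem' g).2 hga
    have hc'' : π g * cb ∉ H.map π := fun e1 => hc' ((mul_mem_cancel_left hgH).1 e1)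
    obtain ⟨y, ⟨hy, hyH⟩, -⟩ := hreg cb (π g * cb) hc' hc''
    have hR : IsPGroup 2 (zpowers (π g) ⊔ Q : Subgroup (L ⧸ H.normalCore)) := by
      refine IsPGroup.to_sup_of_normal_right' ?_ hQ2 ((zpowers_le.2 hgH).trans hnorm)
      rintro ⟨_, i, rfl⟩
      refine ⟨k, Subtype.ext ?_⟩
      show (π g ^ i) ^ (2 ^ k) = 1
      rw [← zpow_natCast, zpow_comm, zpow_natCast, ← map_pow, (hone _).2 (by simpa using hk), one_zpow]
    have hw : y⁻¹ * π g ∈ (zpowers (π g) ⊔ Q : Subgroup (L ⧸ H.normalCore)) :=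
      mul_mem (inv_mem (mem_sup_right hy)) (mem_sup_left (mem_zpowers _))
    have hwH : y⁻¹ * π g ∈ H.map π := mul_mem (inv_mem (hQH hy)) hgH
    have hwc : cb⁻¹ * (y⁻¹ * π g) * cb ∈ H.map π := by
      have := inv_mem hyH
      simpa [mul_assoc] using this
    by_cases hw1 : y⁻¹ * π g = 1
    · exact (inv_mul_eq_one.1 hw1) ▸ hy
    exfalso
    obtain ⟨n, hn⟩ : ∃ n, orderOf (y⁻¹ * π g) = 2 ^ n := by
      obtain ⟨n, hn⟩ := hR ⟨_, hw⟩
      obtain ⟨i, -, hi⟩ := (Nat.dvd_prime_pow Nat.prime_two).1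
        (orderOf_dvd_of_pow_eq_one (congrArg Subtype.val hn :))
      exact ⟨i, hi⟩
    obtain ⟨n, rfl⟩ : ∃ m, n = m + 1 := by
      rcases n with - | m
      · exact absurd (orderOf_eq_one_iff.1 (by simpa using hn)) hw1
      · exact ⟨m, rfl⟩
    set s := (y⁻¹ * π g) ^ (2 ^ n) with hs
    have hso : orderOf s = 2 := by
      rw [hs, orderOf_pow' _ (pow_ne_zero _ two_ne_zero), hn, pow_succ,
        Nat.gcd_eq_right (dvd_mul_right _ _), Nat.mul_div_cancel_left _ (pow_pos two_pos _)]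
    have hsH : s ∈ H.map π := pow_mem hwH _
    have hscH : cb⁻¹ * s * cb⁻¹⁻¹ ∈ H.map π := by
      rw [hs, ← conj_pow, inv_inv]; exact pow_mem hwc _
    exact hc' (by simpa using inv_mem (mem_of_conj_mem hse hsH hso hscH))
  refine ⟨(Q.comap π).map L.subtype, fun g => ⟨?_, ?_⟩, ?_, ?_⟩
  · rintro ⟨c, hc, rfl⟩
    refine ⟨c.2, (hmem' c).1 (hQH hc), ?_⟩
    obtain ⟨k, hk⟩ := hQ2 ⟨π c, hc⟩
    refine ⟨k, ?_⟩
    have h1 := (hone (c ^ (2 ^ k))).1 (by rw [map_pow]; exact congrArg Subtype.val hk)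
    simpa using h1
  · rintro ⟨hg, hga, hgk⟩
    exact ⟨⟨g, hg⟩, hkey ⟨g, hg⟩ hga hgk, rfl⟩
  · intro b c hb hc hba hca
    obtain ⟨g, hg, hgb⟩ := h.exists_loc_smul hx ha hb
    obtain ⟨k, hk, hkc⟩ := h.exists_loc_smul hx ha hc
    obtain ⟨y, ⟨hy, hyH⟩, -⟩ := hreg (π ⟨g, hg⟩) (π ⟨k, hk⟩) (fun e1 => hba (hgb.symm.trans ((hmem' _).1 e1)))
      (fun e1 => hca (hkc.symm.trans ((hmem' _).1 e1)))
    obtain ⟨w, rfl⟩ := hsurj y
    refine ⟨w, ⟨w, hy, rfl⟩, ?_⟩
    rw [← map_mul, ← map_inv, ← map_mul, hmem'] at hyH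
    have : (k⁻¹ * ((w : G) * g)) • a = a := hyH
    rwa [mul_smul, mul_smul, hgb, inv_smul_eq_iff, hkc] at this
  · rintro _ ⟨c, hc, rfl⟩ b hb hba hcb
    obtain ⟨g, hg, hgb⟩ := h.exists_loc_smul hx ha hb
    have hg' : π ⟨g, hg⟩ ∉ H.map π := fun e1 => hba (hgb.symm.trans ((hmem' _).1 e1))
    obtain ⟨y, -, huniq⟩ := hreg _ _ hg' hg'
    refine (hone c).1 ((huniq (π c) ⟨hc, ?_⟩).trans (huniq 1 ⟨one_mem _, ?_⟩).symm)
    · rw [← map_mul, ← map_inv, ← map_mul, hmem']
      show (g⁻¹ * ((c : G) * g)) • a = a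
      rw [mul_smul, mul_smul, hgb, inv_smul_eq_iff, hgb]
      exact hcb
    · rw [one_mul, inv_mul_cancel]; exact one_mem _

end Setup

end CfsgLib.SECrit
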